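import Groth.Agent.Grp57.PowEtale
import Groth.Agent.Rig93.GenGroup
import Groth.Agent.FBase64.Geometric
import Groth.Agent.AbSch7.SmoothFib
import Groth.Prelude.Def_AbDual
import Mathlib.AlgebraicGeometry.AlgClosed.Basic
import Mathlib.AlgebraicGeometry.Sites.Fpqc
import Mathlib.AlgebraicGeometry.Group.Smooth

/-!
Multiplication by an invertible `N` on an abelian variety over an algebraically closed field:
divisibility of points, surjectivity of the Tate module onto torsion, and factorization of
homomorphisms killing the `N`-torsion points.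
-/

set_option autoImplicit false
set_option linter.style.haveILetI false
set_option backward.isDefEq.respectTransparency.types false

noncomputable section

universe u

open CategoryTheory CategoryTheory.Limits MonoidalCategory CartesianMonoidalCategory MonObj GrpObj AlgebraicGeometry

namespace Groth.Agent.TorsDesc95

variable {k : Type u} [Field k]

local notation "Pt" => Over.mk (𝟙 (Spec (CommRingCat.of k)))

variable {A B : Over (Spec (CommRingCat.of k))} [GrpObj A] [GrpObj B]

theorem comp_pow {T : Over (Spec (CommRingCat.of k))} (x : T ⟶ A) (N : ℕ) :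
    x ≫ (𝟙 A ^ N : A ⟶ A) = x ^ N := by
  have := map_pow ({ toFun := fun y => x ≫ y
                     map_one' := MonObj.comp_one _
                     map_mul' := fun y z => MonObj.comp_mul _ _ _ } : (A ⟶ A) →* (T ⟶ A)) (𝟙 A) N
  simpa using this

theorem smooth_hom (A : Over (Spec (CommRingCat.of k))) [GrpObj A] [IsProper A.hom]
    [GeometricallyIntegral A.hom] : Smooth A.hom :=
  haveI : GrpObj (Over.mk A.hom) := ‹GrpObj A›
  AlgebraicGeometry.smooth_of_grpObj A.hom

variable [IsProper A.hom] [GeometricallyIntegral A.hom] [IsCommMonObj A]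

theorem etale_pow (N : ℕ) (hN : (N : k) ≠ 0) : Etale (𝟙 A ^ N : A ⟶ A).left := by
  haveI := smooth_hom A
  have := Grp57.etale_zpow A (N : ℤ) (by simpa using hN)
  simpa using this

theorem isProper_pow (N : ℕ) : IsProper (𝟙 A ^ N : A ⟶ A).left :=
  haveI : IsProper ((𝟙 A ^ N : A ⟶ A).left ≫ A.hom) := by rw [Over.w]; infer_instance
  IsProper.of_comp _ A.hom

theorem surjective_pow (N : ℕ) (hN : (N : k) ≠ 0) : Surjective (𝟙 A ^ N : A ⟶ A).left := by
  haveI := etale_pow (A := A) N hN
  haveI := isProper_pow (A := A) N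
  haveI : IsIntegral A.left := GeometricallyIntegral.isIntegral_of_subsingleton A.hom
  refine ⟨?_⟩
  let f := (𝟙 A ^ N : A ⟶ A).left
  exact Set.range_eq_univ.1 (IsClopen.eq_univ
    ⟨f.isClosedMap.isClosed_range, f.isOpenMap.isOpen_range⟩ (Set.range_nonempty _))

variable [IsAlgClosed k]

theorem exists_root (N : ℕ) (hN : (N : k) ≠ 0) (y : Pt ⟶ A) : ∃ x : Pt ⟶ A, x ^ N = y := by
  haveI := surjective_pow (A := A) N hN
  let f := (𝟙 A ^ N : A ⟶ A).left
  haveI : IsProper f := isProper_pow N
  let c := IsLocalRing.closedPoint k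
  haveI := LocallyOfFiniteType.jacobsonSpace A.hom
  have hy : IsClosed ({y.left c} : Set A.left) := by
    haveI : IsClosedImmersion y.left := isClosedImmersion_of_comp_eq_id A.hom y.left (Over.w y)
    haveI : Nonempty (Pt : Over (Spec (CommRingCat.of k))).left := ⟨c⟩
    have h := y.left.isClosedEmbedding.isClosed_range
    rwa [Set.range_eq_singleton] at h
    exact fun z => congr(y.left $(Subsingleton.elim (α := PrimeSpectrum k) z c))
  have hne : (f ⁻¹' {y.left c}).Nonempty := Function.Surjective.nonempty_preimage f.surjective |>.2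
    (Set.singleton_nonempty _)
  have hlc : IsLocallyClosed (f ⁻¹' {y.left c}) := (hy.preimage f.continuous).isLocallyClosed
  obtain ⟨z, hz, hzc⟩ := nonempty_inter_closedPoints hne hlc
  let x : Pt ⟶ A := Over.homMk (pointOfClosedPoint A.hom z hzc) (pointOfClosedPoint_comp _ _ _)
  refine ⟨x, ?_⟩
  rw [← comp_pow]
  apply Over.OverMorphism.ext
  refine ext_of_apply_closedPoint_eq A.hom (Over.w _) (Over.w y) ?_
  show f (x.left c) = y.left c
  rw [show x.left c = z from pointOfClosedPoint_apply A.hom z hzc c]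
  exact hz

theorem exists_tateMod [IsCommMonObj B] (l : ℕ) [Fact l.Prime] (hl : (l : k) ≠ 0) (n : ℕ) (a : Pt ⟶ A)
    (ha : a ^ (l ^ n) = 1) :
    ∃ x : AbDual.TateMod A l Pt, (x : ℕ → Additive (Pt ⟶ A)) n = Additive.ofMul a := by
  choose root hroot using exists_root (A := A) l hl
  let r : ℕ → (Pt ⟶ A) := fun j => Nat.rec a (fun _ p => root p) j
  have hr : ∀ j, r (j + 1) ^ l = r j := fun j => hroot _
  let x : ℕ → Additive (Pt ⟶ A) := fun m => Additive.ofMul (r (m - n) ^ (l ^ (n - m)))
  have hstep : ∀ m, l • x (m + 1) = x m := fun m => by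
    show Additive.ofMul ((r (m + 1 - n) ^ (l ^ (n - (m + 1)))) ^ l) = Additive.ofMul _
    congr 1
    rw [← pow_mul]
    rcases Nat.lt_or_ge m n with h | h
    · rw [show m + 1 - n = 0 by omega, show m - n = 0 by omega, show n - m = (n - (m + 1)) + 1 by omega,
        pow_succ]
    · rw [show n - (m + 1) = 0 by omega, show n - m = 0 by omega, show m + 1 - n = m - n + 1 by omega,
        pow_zero, pow_one, Nat.one_mul, hr]
  have h0 : x 0 = 0 := by
    show Additive.ofMul (r (0 - n) ^ (l ^ (n - 0))) = 0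
    rw [Nat.zero_sub, Nat.sub_zero]
    exact congrArg Additive.ofMul ha
  have htors : ∀ m, (l ^ m) • x m = 0 := by
    intro m
    induction m with
    | zero => rw [pow_zero, one_smul, h0]
    | succ m ih => rw [pow_succ, mul_smul, hstep, ih]
  refine ⟨⟨x, htors, hstep⟩, ?_⟩
  show Additive.ofMul (r (n - n) ^ (l ^ (n - n))) = _
  rw [Nat.sub_self, pow_zero, pow_one]
  rfl

variable [IsProper B.hom]

/-- a homomorphism killing the `N`-torsion points factors through `N` -/
theorem exists_factor (N : ℕ) (hN : (N : k) ≠ 0) (φ : A ⟶ B) [IsMonHom φ]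
    (hφ : ∀ a : Pt ⟶ A, a ^ N = 1 → a ≫ φ = 1) :
    ∃ φ' : A ⟶ B, IsMonHom φ' ∧ φ = (𝟙 A ^ N) ≫ φ' := by
  haveI := smooth_hom A
  haveI := etale_pow (A := A) N hN
  haveI := isProper_pow (A := A) N
  haveI := surjective_pow (A := A) N hN
  let m : A ⟶ A := 𝟙 A ^ N
  let Kr := pullback m.left η[A].left
  let p : Kr ⟶ A.left := pullback.fst m.left η[A].left
  let q : Kr ⟶ Spec (CommRingCat.of k) := pullback.snd m.left η[A].left
  haveI : Etale q := inferInstanceAs (Etale (pullback.snd m.left η[A].left))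
  have hpq : p ≫ A.hom = q := by
    rw [← Over.w m, pullback.condition_assoc]
    refine (congrArg _ (Over.w η[A])).trans (Category.comp_id _)
  haveI : LocallyOfFiniteType ((p ≫ φ.left) ≫ B.hom) := by
    rw [Category.assoc, Over.w, hpq]; infer_instance
  haveI : IsReduced Kr := AlgGrp79.isReduced_of_smooth q
  have hkey : p ≫ φ.left = q ≫ η[B].left := by
    refine ext_of_apply_eq B.hom Set.univ isClosed_univ.isLocallyClosed dense_univ (fun z _ hz => ?_) ?_
    · let s := pointOfClosedPoint q z hz
      let a : Pt ⟶ A := Over.homMk (s ≫ p) (by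
        show (s ≫ p) ≫ A.hom = 𝟙 _
        rw [Category.assoc, hpq, pointOfClosedPoint_comp])
      have ha : a ^ N = 1 := by
        rw [← comp_pow]
        apply Over.OverMorphism.ext
        show (s ≫ p) ≫ m.left = _
        rw [Category.assoc, pullback.condition, ← Category.assoc, pointOfClosedPoint_comp,
          Category.id_comp, Hom.one_def, Over.comp_left, Over.toUnit_left]
        exact (Category.id_comp _).symm
      have h1 := congr(($(hφ a ha)).left (IsLocalRing.closedPoint k))
      rw [Over.comp_left, Scheme.Hom.comp_apply, Hom.one_def, Over.comp_left, Over.toUnit_left] at h1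
      have h2 : a.left (IsLocalRing.closedPoint k) = p z := by
        show p (s (IsLocalRing.closedPoint k)) = _
        rw [pointOfClosedPoint_apply]
      rw [h2] at h1
      show φ.left (p z) = η[B].left (q z)
      rw [h1]
      exact congr(η[B].left $(Subsingleton.elim (α := PrimeSpectrum k) _ _))
    · rw [Category.assoc, Over.w, hpq, Category.assoc]
      exact ((congrArg _ (Over.w η[B])).trans (Category.comp_id _)).symm
  have hdesc : ∀ {Z : Scheme.{u}} (g₁ g₂ : Z ⟶ A.left),
      g₁ ≫ m.left = g₂ ≫ m.left → g₁ ≫ φ.left = g₂ ≫ φ.left := by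
    intro Z g₁ g₂ h
    have hA : g₂ ≫ A.hom = g₁ ≫ A.hom := by
      rw [← Over.w m, ← Category.assoc, ← h, Category.assoc]
    let a₁ : Over.mk (g₁ ≫ A.hom) ⟶ A := Over.homMk g₁ rfl
    let a₂ : Over.mk (g₁ ≫ A.hom) ⟶ A := Over.homMk g₂ hA
    have hm : a₁ ^ N = a₂ ^ N := by
      exact (comp_pow a₁ N).symm.trans ((Over.OverMorphism.ext h : a₁ ≫ m = a₂ ≫ m).trans (comp_pow a₂ N))
    let d := a₁⁻¹ * a₂
    have hd : d ≫ m = toUnit _ ≫ η[A] := by
      rw [comp_pow, mul_pow, inv_pow, hm, inv_mul_cancel]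
      rfl
    have hd' : d.left ≫ m.left = (g₁ ≫ A.hom) ≫ η[A].left := by
      have := congrArg CommaMorphism.left hd
      simp only [Over.comp_left, Over.toUnit_left] at this
      exact this
    have hdφ : d ≫ φ = 1 := by
      apply Over.OverMorphism.ext
      have e : d.left = pullback.lift d.left (g₁ ≫ A.hom) hd' ≫ p := (pullback.lift_fst _ _ _).symm
      rw [Over.comp_left, e, Category.assoc, hkey, ← Category.assoc, pullback.lift_snd, Hom.one_def,
        Over.comp_left, Over.toUnit_left]
      rfl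
    rw [MonObj.mul_comp, GrpObj.inv_comp, inv_mul_eq_one] at hdφ
    exact congrArg CommaMorphism.left hdφ
  let g := EffectiveEpi.desc m.left φ.left hdesc
  have hg : m.left ≫ g = φ.left := EffectiveEpi.fac m.left φ.left hdesc
  have hgw : g ≫ B.hom = A.hom := by
    rw [← cancel_epi m.left, ← Category.assoc, hg, Over.w, Over.w]
  let φ' : A ⟶ B := Over.homMk g hgw
  have hfac : φ = m ≫ φ' := Over.OverMorphism.ext hg.symm
  have hone : η[A] ≫ φ' = η[B] := by
    have h : η[A] ≫ m = η[A] := by
      rw [comp_pow, show (η[A] : 𝟙_ _ ⟶ A) = 1 by simp [Hom.one_def], one_pow]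
    rw [← h, Category.assoc, ← hfac, IsMonHom.one_hom]
  haveI : GeometricallyConnected A.hom :=
    FBase64.geometricallyConnected_of_geometricallyIrreducible A.hom
  haveI : LocallyOfFinitePresentation B.hom :=
    LocallyOfFinitePresentation.iff_locallyOfFiniteType.2 inferInstance
  exact ⟨φ', Rig93.isMonHom_general A B φ' hone, hfac⟩

theorem main [IsCommMonObj B] (l : ℕ) [Fact l.Prime] (hl : (l : k) ≠ 0) (φ : A ⟶ B) [IsMonHom φ]
    (n : ℕ) (u : AbDual.TateMod A l Pt →ₗ[ℤ_[l]] AbDual.TateMod B l Pt)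
    (hu : AbDual.tateMapₗ (l := l) (T := Pt) φ = ((l : ℤ_[l]) ^ n) • u) :
    ∃ φ' : A ⟶ B, IsMonHom φ' ∧ φ = (𝟙 A ^ (l ^ n)) ≫ φ' := by
  refine exists_factor (l ^ n) (by push_cast; exact pow_ne_zero n hl) φ fun a ha => ?_
  obtain ⟨x, hx⟩ := exists_tateMod (B := B) l hl n a ha
  have h1 : AbDual.TateMod.component B l Pt n (AbDual.tateMapₗ φ x) = 0 := by
    rw [hu, LinearMap.smul_apply, show ((l : ℤ_[l]) ^ n) = ((l ^ n : ℕ) : ℤ_[l]) by push_cast; rfl,
      Nat.cast_smul_eq_nsmul, map_nsmul]
    exact (u x).2.1 n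
  have h2 : Additive.ofMul ((Additive.toMul ((x : ℕ → Additive (Pt ⟶ A)) n)) ≫ φ) = 0 := h1
  rw [hx] at h2
  exact h2

end Groth.Agent.TorsDesc95
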